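import Mathlib
import Cfsg.Agent.FixOdd.Fix
import Cfsg.Agent.S0144
/-!
# The normaliser of the groups `P Q` in the centraliser (S1332)

`t : FixOdd.Tw Δ G`, `P Q = cent ⊓ UR Q` for a minimal invariant residue `Q`.

* `uniq` : two minimal invariant residues of the same type, in the same position with respect to the minimal invariant
  residue `Q`, all with the same group `P`, are equal;
* `isSolvable_normalizer` : if the stabiliser of `Q` in `cent` is solvable and `|W| ≤ 16` then the normaliser of `P Q`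
  in `cent` is solvable.
-/

set_option autoImplicit false
set_option linter.unusedSectionVars false

open scoped Pointwise

namespace Cfsg.Agent.BpHecke.Norm

open Cfsg.Agent.Tits.Core Cfsg.Agent.Tits.Core.Bldg Cfsg.Agent.Tits.Exchange Cfsg.Agent.Tits
open Cfsg.Agent.FixBN (Sys Conv conv_Res eq_of_isMinR par_transfer par_δ SS SS_all SS_nonempty mem_SS_of_δ)
open Cfsg.Agent.FixBN.Cox (Par Ad conjSet mem_of_simple_mem wJ_inj par_of_longest mem_WJ_map par_one)
open Cfsg.Agent.FixOdd Cfsg.Agent.FixOdd.Tw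

variable {I : Type*} {M : CoxeterMatrix I} {W : Type*} [Group W] {cs : CoxeterSystem M W} {C : Type*}

local prefix:100 "ℓ" => cs.length

variable {Δ : Bldg cs C} {G : Type*} [Group G] [MulAction G C] {p r : ℕ} {t : Tw Δ G}
  [F : OppRes.Cox cs] [Finite I] [Finite G] [hp : Fact p.Prime] [hr : Fact r.Prime] [Finite C]

/-- The group `P` of a residue between two residues with the same group `P`. -/
theorem P_eq_of_gate (S : Sys Δ G p) (hth : Δ.Thick) (ho : t.Ord r) (hrp : r ≠ p) {J J'' J' T : Set I}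
    {x y y1 : C} {v b : W} (h : t.Gd J x) (h1 : t.Gd J'' y1) (hxy : Δ.δ x y1 = v) (hy : Δ.δ y1 y = b)
    (hpar : Par cs J J'' v) (hv : IsMinR cs T v) (hb : b ∈ WJ cs T)
    (hP : t.P S (Δ.Res J' y) = t.P S (Δ.Res J x)) : t.P S (Δ.Res J'' y1) = t.P S (Δ.Res J x) := by
  have hle : t.P S (Δ.Res J x) ≤ t.P S (Δ.Res J'' y1) := by
    intro u hu
    have hu' : u ∈ t.P S (Δ.Res J' y) := by rw [hP]; exact hu
    have hux : u • x = x := S.fix x u (hu.2 x (Δ.self_mem_Res _ _))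
    have huy : u • y = y := S.fix y u (hu'.2 y (Δ.self_mem_Res _ _))
    have e1 : Δ.δ x (u • y1) = v := by rw [← hxy, ← S.iso u x y1, hux]
    have e2 : Δ.δ (u • y1) y = b := by rw [← hy, ← S.iso u y1 y, huy]
    have e3 : u • y1 ∈ Δ.Res T y1 := by
      have h2 : y ∈ Δ.Res T y1 := by rw [mem_Res, hy]; exact hb
      have h3 : y ∈ Δ.Res T (u • y1) := by rw [mem_Res, e2]; exact hb
      exact Δ.mem_Res_trans h2 (Δ.mem_Res_symm h3)
    have e4 : u • y1 = y1 := eq_of_isMinR hv hxy e1 e3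
    refine ⟨hu.1, S.mem_UR_of_stab hpar (mem_SS_of_δ hxy) hu.2 ?_⟩
    rw [S.smul_Res, e4]
  have hcard := card_P_const S hth ho hrp h h1
  exact (Subgroup.eq_of_le_of_card_ge hle hcard.le).symm

/-- **Uniqueness.** -/
theorem uniq (S : Sys Δ G p) (hth : Δ.Thick) (ho : t.Ord r) (hrp : r ≠ p) {J : Set I} {x : C} (h : t.Gd J x) :
    ∀ (n : ℕ) (w : W), ℓ w = n → ∀ (J' : Set I) (y z : C), t.Gd J' y → t.Gd J' z → Δ.δ x y = w → Δ.δ x z = w →
      Par cs J J' w → t.φ w = w → t.P S (Δ.Res J' y) = t.P S (Δ.Res J x) →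
      t.P S (Δ.Res J' z) = t.P S (Δ.Res J x) → Δ.Res J' y = Δ.Res J' z := by
  intro n
  induction n using Nat.strong_induction_on with
  | _ n ih =>
  intro w hn J' y z hgy hgz hy hz hpar hφ hPy hPz
  by_cases hne : w = 1
  · rw [hne] at hy hz
    rw [← Δ.eq_of_δ_eq_one hy, ← Δ.eq_of_δ_eq_one hz]
  obtain ⟨i, hi⟩ := cs.exists_rightDescent_of_ne_one hne
  have hi : ℓ (w * cs.simple i) < ℓ w := hi
  obtain ⟨v, b, hvb, hb, hv, hφv, hφb, hb1, hpv, hpb, hst, hlong⟩ :=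
    Cfsg.Agent.FixOdd.Cox.exists_step t.φ_simple hpar h.st hgy.st hφ hi
      (T := J' ∪ Cfsg.Agent.FixOdd.Cox.orb t.σ i) rfl
  set T := J' ∪ Cfsg.Agent.FixOdd.Cox.orb t.σ i with hT
  have hl := hv b hb
  have hlv : ℓ v < n := by
    have h1 : ℓ b ≠ 0 := fun h0 => hb1 (cs.length_eq_zero_iff.1 h0)
    rw [← hn, hvb, hl]
    omega
  obtain ⟨y1, hy1, hy1'⟩ := Δ.exists_between (hy.trans hvb) hl
  obtain ⟨z1, hz1, hz1'⟩ := Δ.exists_between (hz.trans hvb) hl
  have hTst : t.Stab T := Cfsg.Agent.FixOdd.Cox.union_orb_stable hgy.st i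
  have hsub : J' ⊆ T := Set.subset_union_left
  have hAd : Ad cs t.φ t.σ T (conjSet cs T J' b) J' b :=
    ⟨hTst, hst, hgy.st, fun k hk => hk.1, hsub, hb, hφb, hpb, hlong⟩
  have key : ∀ a a1 : C, t.Gd J' a → Δ.δ x a1 = v → Δ.δ a1 a = b → t.θ a1 ∈ Δ.Res T a1 ∧
      t.Gd (conjSet cs T J' b) a1 := by
    intro a a1 hga h1 h2
    have h3 : a ∈ Δ.Res T a1 := by rw [mem_Res, h2]; exact hb
    have h4 : t.θ a ∈ Δ.Res T a := Δ.Res_mono hsub a hga.θ_mem
    have h5 := t.θ_mem_Res hTst (Δ.mem_Res_symm h3)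
    have h6 : t.θ a1 ∈ Δ.Res T a1 := Δ.mem_Res_trans (Δ.mem_Res_trans h3 h4) h5
    exact ⟨h6, gd_transfer' h hpv h1 hφv hst hTst (fun k hk => hk.1) hv h6⟩
  obtain ⟨hθy, hgy1⟩ := key y y1 hgy hy1 hy1'
  obtain ⟨-, hgz1⟩ := key z z1 hgz hz1 hz1'
  have hPy1 := P_eq_of_gate S hth ho hrp h hgy1 hy1 hy1' hpv hv hb hPy
  have hPz1 := P_eq_of_gate S hth ho hrp h hgz1 hz1 hz1' hpv hv hb hPz
  have he := ih _ hlv v rfl (conjSet cs T J' b) y1 z1 hgy1 hgz1 hy1 hz1 hpv hφv hPy1 hPz1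
  have hzz : z1 ∈ Δ.Res (conjSet cs T J' b) y1 := by rw [he]; exact Δ.self_mem_Res _ _
  obtain ⟨u, huc, hu, -, huZ⟩ := FixOdd.Tw.trans_SS S hth ho hrp hgy1 (Δ.δ_self y1) (par_one _) (isMinR_one cs T)
    hAd hθy (Z1 := Δ.Res J' y) (Z2 := Δ.Res J' z) (mem_SS_of_δ hy1') ⟨z1, hzz, z, hz1', rfl⟩ (image_Gd hgy)
    (image_Gd hgz)
  have h1 : u ∈ t.P S (Δ.Res J' y) := by rw [hPy, ← hPy1]; exact ⟨huc, hu⟩
  rw [← huZ, smul_of_mem_UR S h1.2]

/-- `Q'` is a minimal invariant residue of type `J` with the same group `P` as `Res J x`. -/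
structure Same (t : Tw Δ G) (S : Sys Δ G p) (J : Set I) (x y : C) : Prop where
  gd : t.Gd J y
  eq : t.P S (Δ.Res J y) = t.P S (Δ.Res J x)

/-- The position of `Res J y`. -/
theorem exists_pos (S : Sys Δ G p) {J : Set I} {x y : C} (h : t.Gd J x) (hy : Same t S J x y) :
    ∃ w : W, Par cs J J w ∧ t.φ w = w ∧ ∃ y' ∈ Δ.Res J y, Δ.δ x y' = w := by
  obtain ⟨a, ha, c, hc, hpar, hφ⟩ := parallel h hy.gd
  obtain ⟨y', hy', he⟩ := par_transfer hpar rfl (Δ.mem_Res_symm ha)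
  exact ⟨_, hpar, hφ, y', Δ.mem_Res_trans hc hy', he⟩

theorem eq_of_pos (S : Sys Δ G p) (hth : Δ.Thick) (ho : t.Ord r) (hrp : r ≠ p) {J : Set I} {x y z : C} (h : t.Gd J x)
    (hy : Same t S J x y) (hz : Same t S J x z) {w : W} (hpar : Par cs J J w) (hφ : t.φ w = w) {y' z' : C}
    (hy' : y' ∈ Δ.Res J y) (hz' : z' ∈ Δ.Res J z) (ey : Δ.δ x y' = w) (ez : Δ.δ x z' = w) :
    Δ.Res J y = Δ.Res J z := by
  rw [← Δ.Res_eq_of_mem hy', ← Δ.Res_eq_of_mem hz']
  refine uniq S hth ho hrp h _ w rfl J y' z' (hy.gd.congr hy') (hz.gd.congr hz') ey ez hpar hφ ?_ ?_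
  · rw [Δ.Res_eq_of_mem hy']; exact hy.eq
  · rw [Δ.Res_eq_of_mem hz']; exact hz.eq

/-- An element of the centraliser stabilising `Res J x` and normalising `P` stabilises all these residues. -/
theorem smul_of_stab (S : Sys Δ G p) (hth : Δ.Thick) (ho : t.Ord r) (hrp : r ≠ p) {J : Set I} {x y : C}
    (h : t.Gd J x) (hy : Same t S J x y) {d : G} (hdx : d • Δ.Res J x = Δ.Res J x)
    (hdy : Same t S J x (d • y)) : d • Δ.Res J y = Δ.Res J y := by
  obtain ⟨w, hpar, hφ, y', hy', e⟩ := exists_pos S h hy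
  have h1 : Δ.δ (d • x) (d • y') = w := by rw [S.iso, e]
  have h2 : x ∈ Δ.Res J (d • x) := by
    rw [← S.smul_Res, hdx]
    exact Δ.self_mem_Res _ _
  obtain ⟨z', hz', ez⟩ := par_transfer hpar h1 h2
  have h3 : z' ∈ Δ.Res J (d • y) := Δ.mem_Res_trans (S.smul_mem_Res hy') hz'
  rw [S.smul_Res]
  exact eq_of_pos S hth ho hrp h hdy hy hpar hφ h3 hy' ez e

theorem P_smul (S : Sys Δ G p) {J : Set I} {x : C} {g : G} (hg : g ∈ t.cent)
    (hn : ∀ u, u ∈ t.P S (Δ.Res J x) ↔ g * u * g⁻¹ ∈ t.P S (Δ.Res J x)) :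
    t.P S (Δ.Res J (g • x)) = t.P S (Δ.Res J x) := by
  ext u
  have h1 : u ∈ t.P S (Δ.Res J (g • x)) ↔ g⁻¹ * u * g ∈ t.P S (Δ.Res J x) := by
    rw [← S.smul_Res]
    have h2 := S.conj_mem_UR_iff (Q := Δ.Res J x) (u := g⁻¹ * u * g) (g := g)
    have h3 : g * (g⁻¹ * u * g) * g⁻¹ = u := by group
    rw [h3] at h2
    constructor
    · rintro ⟨h4, h5⟩
      exact ⟨t.cent.mul_mem (t.cent.mul_mem (t.cent.inv_mem hg) h4) hg, h2.1 h5⟩
    · rintro ⟨h4, h5⟩
      refine ⟨?_, h2.2 h5⟩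
      have := t.cent.mul_mem (t.cent.mul_mem hg h4) (t.cent.inv_mem hg)
      rwa [h3] at this
  rw [h1, hn]
  have h3 : g * (g⁻¹ * u * g) * g⁻¹ = u := by group
  rw [h3]

/-- Groups of order at most `16` are solvable. -/
theorem isSolvable_of_card_le {N : Type*} [Group N] [Finite N] (h : Nat.card N ≤ 16) : Group.IsSolvable N := by
  have h0 : 0 < Nat.card N := Nat.card_pos
  have key : ∀ p q a b : ℕ, p.Prime → q.Prime → Nat.card N = p ^ a * q ^ b → Group.IsSolvable N :=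
    fun p q a b hp hq h => S0144.result p q a b hp hq h
  generalize hm : Nat.card N = m at *
  interval_cases m
  · exact key 2 3 0 0 (by norm_num) (by norm_num) (by norm_num)
  · exact key 2 3 1 0 (by norm_num) (by norm_num) (by norm_num)
  · exact key 2 3 0 1 (by norm_num) (by norm_num) (by norm_num)
  · exact key 2 3 2 0 (by norm_num) (by norm_num) (by norm_num)
  · exact key 2 5 0 1 (by norm_num) (by norm_num) (by norm_num)
  · exact key 2 3 1 1 (by norm_num) (by norm_num) (by norm_num)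
  · exact key 2 7 0 1 (by norm_num) (by norm_num) (by norm_num)
  · exact key 2 3 3 0 (by norm_num) (by norm_num) (by norm_num)
  · exact key 2 3 0 2 (by norm_num) (by norm_num) (by norm_num)
  · exact key 2 5 1 1 (by norm_num) (by norm_num) (by norm_num)
  · exact key 2 11 0 1 (by norm_num) (by norm_num) (by norm_num)
  · exact key 2 3 2 1 (by norm_num) (by norm_num) (by norm_num)
  · exact key 2 13 0 1 (by norm_num) (by norm_num) (by norm_num)
  · exact key 2 7 1 1 (by norm_num) (by norm_num) (by norm_num)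
  · exact key 3 5 1 1 (by norm_num) (by norm_num) (by norm_num)
  · exact key 2 3 4 0 (by norm_num) (by norm_num) (by norm_num)

/-- **The normaliser of `P Q`.** -/
theorem isSolvable_normalizer (S : Sys Δ G p) (hth : Δ.Thick) (ho : t.Ord r) (hrp : r ≠ p) {J : Set I} {x : C}
    (h : t.Gd J x) [Finite W] (hW : Nat.card W ≤ 16)
    (h4 : Group.IsSolvable ↥(t.cent ⊓ MulAction.stabilizer G (Δ.Res J x))) :
    Group.IsSolvable ↥(Subgroup.normalizer
      (((t.P S (Δ.Res J x)).subgroupOf t.cent : Subgroup ↥t.cent) : Set ↥t.cent)) := by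
  have hmem : ∀ g : ↥t.cent, g ∈ Subgroup.normalizer
      (((t.P S (Δ.Res J x)).subgroupOf t.cent : Subgroup ↥t.cent) : Set ↥t.cent) →
      ∀ u, u ∈ t.P S (Δ.Res J x) ↔ (g : G) * u * (g : G)⁻¹ ∈ t.P S (Δ.Res J x) := by
    intro g hg u
    rw [Subgroup.mem_normalizer_iff] at hg
    constructor
    · intro hu
      exact Subgroup.mem_subgroupOf.1 ((hg ⟨u, hu.1⟩).1 (Subgroup.mem_subgroupOf.2 hu))
    · intro hu
      have huc : u ∈ t.cent := by
        have h1 := t.cent.mul_mem (t.cent.mul_mem (t.cent.inv_mem g.2) hu.1) g.2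
        have h2 : (g : G)⁻¹ * ((g : G) * u * (g : G)⁻¹) * g = u := by group
        rwa [h2] at h1
      exact Subgroup.mem_subgroupOf.1 ((hg ⟨u, huc⟩).2 (Subgroup.mem_subgroupOf.2 hu))
  set N := Subgroup.normalizer
    (((t.P S (Δ.Res J x)).subgroupOf t.cent : Subgroup ↥t.cent) : Set ↥t.cent) with hNdef
  have hsame : ∀ n : ↥N, Same t S J x (((n : ↥t.cent) : G) • x) := fun n =>
    ⟨gd_smul S h (n : ↥t.cent).2, P_smul S (n : ↥t.cent).2 (hmem _ n.2)⟩
  let D : Subgroup ↥N :=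
    { carrier := {n | ((n : ↥t.cent) : G) • Δ.Res J x = Δ.Res J x}
      one_mem' := one_smul _ _
      mul_mem' := by
        intro a b (ha : ((a : ↥t.cent) : G) • Δ.Res J x = Δ.Res J x)
          (hb : ((b : ↥t.cent) : G) • Δ.Res J x = Δ.Res J x)
        change (((a : ↥t.cent) : G) * ((b : ↥t.cent) : G)) • Δ.Res J x = Δ.Res J x
        rw [mul_smul, hb, ha]
      inv_mem' := by
        intro a (ha : ((a : ↥t.cent) : G) • Δ.Res J x = Δ.Res J x)
        change (((a : ↥t.cent) : G)⁻¹) • Δ.Res J x = Δ.Res J x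
        rw [inv_smul_eq_iff, ha] }
  have hD : ∀ n : ↥N, n ∈ D ↔ ((n : ↥t.cent) : G) • Δ.Res J x = Δ.Res J x := fun n => Iff.rfl
  have hDn : D.Normal := by
    constructor
    intro c hc g
    rw [hD] at hc ⊢
    -- `c` stabilises `g⁻¹ Q`
    have h1 : Same t S J x ((((g⁻¹ : ↥N) : ↥t.cent) : G) • x) := hsame g⁻¹
    have h2 : Same t S J x ((((c * g⁻¹ : ↥N) : ↥t.cent) : G) • x) := hsame (c * g⁻¹)
    have h3 := smul_of_stab S hth ho hrp h h1 hc (by
      have e : (((c * g⁻¹ : ↥N) : ↥t.cent) : G) = ((c : ↥t.cent) : G) * (((g⁻¹ : ↥N) : ↥t.cent) : G) := rfl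
      rw [e, mul_smul] at h2
      exact h2)
    rw [← S.smul_Res] at h3
    have e : (((g * c * g⁻¹ : ↥N) : ↥t.cent) : G) =
        ((g : ↥t.cent) : G) * (((c : ↥t.cent) : G) * (((g⁻¹ : ↥N) : ↥t.cent) : G)) := by
      change ((g : ↥t.cent) : G) * ((c : ↥t.cent) : G) * (((g⁻¹ : ↥N) : ↥t.cent) : G) = _
      rw [mul_assoc]
    rw [e, mul_smul, mul_smul, h3, ← mul_smul]
    change (((g * g⁻¹ : ↥N) : ↥t.cent) : G) • _ = _
    rw [mul_inv_cancel]
    exact one_smul _ _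
  rw [Group.isSolvable_iff_subgroup_quotient D]
  constructor
  · let f : ↥D →* ↥(t.cent ⊓ MulAction.stabilizer G (Δ.Res J x)) :=
      { toFun := fun d => ⟨((d : ↥N) : ↥t.cent), ((d : ↥N) : ↥t.cent).2, d.2⟩
        map_one' := rfl
        map_mul' := fun _ _ => rfl }
    refine Group.isSolvable_of_isSolvable_injective (f := f) ?_
    intro a b hab
    apply Subtype.ext
    apply Subtype.ext
    apply Subtype.ext
    have h1 := congrArg Subtype.val hab
    exact h1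
  · refine isSolvable_of_card_le (le_trans ?_ hW)
    choose pos hpos using fun n : ↥N => exists_pos S h (hsame n)
    refine Nat.card_le_card_of_injective (fun q : ↥N ⧸ D => pos q.out) ?_
    intro a b hab
    obtain ⟨hpa, hφa, ya, hya, ea⟩ := hpos a.out
    obtain ⟨hpb, hφb, yb, hyb, eb⟩ := hpos b.out
    have hab' : pos a.out = pos b.out := hab
    have h1 := eq_of_pos S hth ho hrp h (hsame a.out) (hsame b.out) hpa hφa hya hyb ea (by rw [eb, hab'])
    rw [← S.smul_Res, ← S.smul_Res] at h1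
    rw [← QuotientGroup.out_eq' a, ← QuotientGroup.out_eq' b, QuotientGroup.eq, hD]
    change (((((a.out : ↥N)⁻¹ : ↥N) : ↥t.cent) : G) * (((b.out : ↥N) : ↥t.cent) : G)) • Δ.Res J x = _
    rw [mul_smul, ← h1]
    change ((((a.out : ↥N) : ↥t.cent) : G)⁻¹) • _ = _
    rw [inv_smul_smul]

end Cfsg.Agent.BpHecke.Norm
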