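import Mathlib
import Cfsg.Agent.FixBN.Trace
import Cfsg.Agent.BpHecke.Norm
import Cfsg.Agent.BpGate.Main
import Cfsg.Agent.BpTri.Panel
import Cfsg.Agent.FixOdd.Gates
import Cfsg.Agent.FixOdd.Smith
import Cfsg.Agent.FixBN.TraceSys
import Cfsg.Agent.LieRecognition.CoxForm

-- merged: Cfsg.Agent.BpHecke.Hecke
section

/-!
THE HECKE THEOREM (S1332). A residue of type `J` of a finite building, all panels having size `1` in the
field `k`, with a type preserving automorphism `θ` leaving no proper sub-residue invariant: for every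
ordering `s₁, …, sₙ` of `J` there is a chamber `a` with `δ (θ a) a = s₁ ⋯ sₙ`.

The operators `E i = 1 + T i` are idempotent; for `D = E s₁ ⋯ E sₙ - (all-ones matrix)` right
multiplication by `D` increases the length filtration, so `D` is nilpotent and commutes with `θ`.
-/

set_option autoImplicit false
set_option linter.unusedSectionVars false

namespace Cfsg.Agent.BpHecke

open Cfsg.Agent.Tits.Core Cfsg.Agent.Tits.Core.Bldg Cfsg.Agent.Tits.OppRes Cfsg.Agent.FixBN
open Cfsg.Agent.FixBN.Trace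
open scoped Classical

variable {I : Type*} {M : CoxeterMatrix I} {W : Type*} [Group W] {cs : CoxeterSystem M W} {C : Type*}

section Hecke

variable (Δ : Bldg cs C) (J : Set I) (x : C) (k : Type*) [CommRing k]

/-- The panel operator. -/
noncomputable def Ep (i : I) : Matrix (Δ.Res J x) (Δ.Res J x) k := 1 + T Δ J x k (cs.simple i)

/-- The span of the `T_w`, `w ∈ W_J` of length at least `n`. -/
noncomputable def Fil (n : ℕ) : Submodule k (Matrix (Δ.Res J x) (Δ.Res J x) k) :=
  Submodule.span k {B | ∃ w ∈ WJ cs J, n ≤ cs.length w ∧ T Δ J x k w = B}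

/-- The all-ones matrix. -/
def Ones : Matrix (Δ.Res J x) (Δ.Res J x) k := Matrix.of fun _ _ => 1

variable {Δ J x k}

theorem T_mem_Fil {n : ℕ} {w : W} (hw : w ∈ WJ cs J) (hn : n ≤ cs.length w) :
    T Δ J x k w ∈ Fil Δ J x k n := Submodule.subset_span ⟨w, hw, hn, rfl⟩

theorem Fil_mono {m n : ℕ} (h : m ≤ n) : Fil Δ J x k n ≤ Fil Δ J x k m := by
  refine Submodule.span_mono ?_
  rintro B ⟨w, hw, hn, rfl⟩
  exact ⟨w, hw, h.trans hn, rfl⟩

variable [F : Cox cs] [Fintype (Δ.Res J x)]

theorem T_mul_Ep_of_lt {w : W} {i : I} (hi : i ∈ J) (h : cs.length w < cs.length (w * cs.simple i)) :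
    T Δ J x k w * Ep Δ J x k i = T Δ J x k w + T Δ J x k (w * cs.simple i) := by
  rw [Ep, mul_add, mul_one, T_mul_simple_of_lt hi h]

theorem T_mul_Ep_of_gt (hq : Zero k Δ J x) {w : W} {i : I} (hi : i ∈ J)
    (h : cs.length (w * cs.simple i) < cs.length w) : T Δ J x k w * Ep Δ J x k i = 0 := by
  rw [Ep, mul_add, mul_one, T_mul_simple_of_gt hq hi h, add_neg_cancel]

theorem Fil_mul_Ep (hq : Zero k Δ J x) {n : ℕ} {B : Matrix (Δ.Res J x) (Δ.Res J x) k}
    (hB : B ∈ Fil Δ J x k n) {i : I} (hi : i ∈ J) : B * Ep Δ J x k i ∈ Fil Δ J x k n := by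
  induction hB using Submodule.span_induction with
  | mem B hB =>
    obtain ⟨w, hw, hn, rfl⟩ := hB
    rcases lt_or_gt_of_ne (cs.length_mul_simple_ne w i) with h | h
    · rw [T_mul_Ep_of_gt hq hi h]
      exact Submodule.zero_mem _
    · rw [T_mul_Ep_of_lt hi h]
      exact Submodule.add_mem _ (T_mem_Fil hw hn)
        (T_mem_Fil (mul_mem hw (simple_mem_WJ hi)) (hn.trans h.le))
  | zero => rw [zero_mul]; exact Submodule.zero_mem _
  | add B B' _ _ h1 h2 => rw [add_mul]; exact Submodule.add_mem _ h1 h2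
  | smul c B _ h1 => rw [smul_mul_assoc]; exact Submodule.smul_mem _ _ h1

theorem Fil_mul_prod (hq : Zero k Δ J x) {n : ℕ} {B : Matrix (Δ.Res J x) (Δ.Res J x) k}
    (hB : B ∈ Fil Δ J x k n) {ω : List I} (hω : ∀ i ∈ ω, i ∈ J) :
    B * (ω.map (Ep Δ J x k)).prod ∈ Fil Δ J x k n := by
  induction ω generalizing B with
  | nil => rwa [List.map_nil, List.prod_nil, mul_one]
  | cons i ω ih =>
    rw [List.map_cons, List.prod_cons, ← mul_assoc]
    exact ih (Fil_mul_Ep hq hB (hω i (by simp))) fun j hj => hω j (by simp [hj])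

theorem T_mul_prod (hq : Zero k Δ J x) {w : W} (hw : w ∈ WJ cs J) {ω : List I} (hω : ∀ i ∈ ω, i ∈ J) :
    ((∃ i ∈ ω, cs.length (w * cs.simple i) < cs.length w) →
      T Δ J x k w * (ω.map (Ep Δ J x k)).prod ∈ Fil Δ J x k (cs.length w + 1)) ∧
    ((¬ ∃ i ∈ ω, cs.length (w * cs.simple i) < cs.length w) →
      T Δ J x k w * (ω.map (Ep Δ J x k)).prod - T Δ J x k w ∈ Fil Δ J x k (cs.length w + 1)) := by
  induction ω with
  | nil =>
    refine ⟨fun ⟨i, hi, _⟩ => absurd hi (by simp), fun _ => ?_⟩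
    rw [List.map_nil, List.prod_nil, mul_one, sub_self]
    exact Submodule.zero_mem _
  | cons i ω ih =>
    have hi : i ∈ J := hω i (by simp)
    obtain ⟨ih1, ih2⟩ := ih fun j hj => hω j (by simp [hj])
    rw [List.map_cons, List.prod_cons, ← mul_assoc]
    rcases lt_or_gt_of_ne (cs.length_mul_simple_ne w i) with h | h
    · refine ⟨fun _ => ?_, fun h1 => absurd ⟨i, by simp, h⟩ h1⟩
      rw [T_mul_Ep_of_gt hq hi h, zero_mul]
      exact Submodule.zero_mem _
    · have h1 : T Δ J x k (w * cs.simple i) * (ω.map (Ep Δ J x k)).prod ∈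
          Fil Δ J x k (cs.length w + 1) :=
        Fil_mul_prod hq (T_mem_Fil (mul_mem hw (simple_mem_WJ hi)) h) fun j hj => hω j (by simp [hj])
      rw [T_mul_Ep_of_lt hi h, add_mul]
      refine ⟨?_, ?_⟩
      · rintro ⟨j, hj, hlt⟩
        have hj' : j ∈ ω := by
          rcases List.mem_cons.1 hj with rfl | hj
          · exact absurd hlt (not_lt.2 h.le)
          · exact hj
        exact Submodule.add_mem _ (ih1 ⟨j, hj', hlt⟩) h1
      · intro h2
        have h3 := ih2 fun ⟨j, hj, hlt⟩ => h2 ⟨j, by simp [hj], hlt⟩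
        have h4 := Submodule.add_mem _ h3 h1
        convert h4 using 1
        abel

theorem T_mul_Ones (hq : Zero k Δ J x) {w : W} (hw : w ∈ WJ cs J) (h1 : w ≠ 1) :
    T Δ J x k w * Ones Δ J x k = 0 := by
  ext a b
  rw [Matrix.mul_apply]
  simp only [Ones, Matrix.of_apply, mul_one, Matrix.zero_apply]
  exact sum_T_of_ne hq a hw h1

theorem Ones_sub_one_mem : Ones Δ J x k - 1 ∈ Fil Δ J x k 1 := by
  classical
  set S : Finset W := Finset.univ.image fun ab : Δ.Res J x × Δ.Res J x => Δ.δ (ab.1 : C) ab.2 with hS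
  have h1 : Ones Δ J x k = ∑ w ∈ S, T Δ J x k w := by
    ext a b
    rw [Matrix.sum_apply, Finset.sum_eq_single (Δ.δ (a : C) b)]
    · rw [T_eq_one rfl]
      rfl
    · intro w _ hne
      exact T_eq_zero (Ne.symm hne)
    · intro h
      exact absurd (Finset.mem_image.2 ⟨(a, b), Finset.mem_univ _, rfl⟩) h
  have hx : (1 : W) ∈ S :=
    Finset.mem_image.2 ⟨(⟨x, mem_Res_self J x⟩, ⟨x, mem_Res_self J x⟩), Finset.mem_univ _,
      delta_self (Δ := Δ) x⟩
  rw [h1, ← Finset.add_sum_erase S _ hx, T_one, add_sub_cancel_left]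
  refine Submodule.sum_mem _ fun w hw => ?_
  obtain ⟨hw1, hw2⟩ := Finset.mem_erase.1 hw
  obtain ⟨ab, _, rfl⟩ := Finset.mem_image.1 hw2
  refine T_mem_Fil (delta_mem_of_Res ab.1.2 ab.2.2) ?_
  have h2 : cs.length (Δ.δ (ab.1 : C) ab.2) ≠ 0 := fun h3 => hw1 (cs.length_eq_zero_iff.1 h3)
  omega

/-- The nilpotent operator. -/
noncomputable def Dm (Δ : Bldg cs C) (J : Set I) (x : C) (k : Type*) [CommRing k]
    [Fintype (Δ.Res J x)] (ω : List I) : Matrix (Δ.Res J x) (Δ.Res J x) k :=
  (ω.map (Ep Δ J x k)).prod - Ones Δ J x k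

theorem Fil_mul_Dm (hq : Zero k Δ J x) {ω : List I} (hω : ∀ i, i ∈ ω ↔ i ∈ J) {n : ℕ}
    {B : Matrix (Δ.Res J x) (Δ.Res J x) k} (hB : B ∈ Fil Δ J x k n) :
    B * Dm Δ J x k ω ∈ Fil Δ J x k (n + 1) := by
  induction hB using Submodule.span_induction with
  | mem B hB =>
    obtain ⟨w, hw, hn, rfl⟩ := hB
    refine Fil_mono (show n + 1 ≤ cs.length w + 1 by omega) ?_
    by_cases h1 : w = 1
    · subst h1
      have h2 := (T_mul_prod hq hw (ω := ω) (fun i hi => (hω i).1 hi)).2 (by
        rintro ⟨i, _, hi⟩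
        rw [one_mul, cs.length_one] at hi
        exact absurd hi (Nat.not_lt_zero _))
      rw [cs.length_one, T_one, one_mul] at h2 ⊢
      have h3 := Submodule.sub_mem _ h2 (Ones_sub_one_mem (Δ := Δ) (J := J) (x := x) (k := k))
      rw [Dm]
      convert h3 using 1
      abel
    · obtain ⟨i, hi, hlt⟩ := F.exists_descent hw h1
      rw [Dm, mul_sub, T_mul_Ones hq hw h1, sub_zero]
      exact (T_mul_prod hq hw (fun i hi => (hω i).1 hi)).1 ⟨i, (hω i).2 hi, hlt⟩
  | zero => rw [zero_mul]; exact Submodule.zero_mem _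
  | add B B' _ _ h1 h2 => rw [add_mul]; exact Submodule.add_mem _ h1 h2
  | smul c B _ h1 => rw [smul_mul_assoc]; exact Submodule.smul_mem _ _ h1

theorem one_mem_Fil : (1 : Matrix (Δ.Res J x) (Δ.Res J x) k) ∈ Fil Δ J x k 0 := by
  rw [← T_one]
  exact T_mem_Fil (one_mem _) (Nat.zero_le _)

theorem Dm_pow_mem (hq : Zero k Δ J x) {ω : List I} (hω : ∀ i, i ∈ ω ↔ i ∈ J) (n : ℕ) :
    Dm Δ J x k ω ^ n ∈ Fil Δ J x k n := by
  induction n with
  | zero => rw [pow_zero]; exact one_mem_Fil
  | succ n ih => rw [pow_succ]; exact Fil_mul_Dm hq hω ih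

theorem Dm_mem (hq : Zero k Δ J x) {ω : List I} (hω : ∀ i, i ∈ ω ↔ i ∈ J) :
    Dm Δ J x k ω ∈ Fil Δ J x k 0 := by
  have h := Dm_pow_mem (k := k) hq hω 1
  rw [pow_one] at h
  exact Fil_mono (Nat.zero_le _) h

theorem isNilpotent_Dm (hq : Zero k Δ J x) {ω : List I} (hω : ∀ i, i ∈ ω ↔ i ∈ J) :
    IsNilpotent (Dm Δ J x k ω) := by
  refine ⟨cs.length (wJ cs J) + 1, ?_⟩
  have h := Dm_pow_mem (k := k) hq hω (cs.length (wJ cs J) + 1)
  have h1 : Fil Δ J x k (cs.length (wJ cs J) + 1) = ⊥ := by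
    rw [Fil, Submodule.span_eq_bot]
    rintro B ⟨w, hw, hn, rfl⟩
    have := F.len_wJ_mul hw
    omega
  rw [h1] at h
  exact (Submodule.mem_bot k).1 h

/-! ### The entries of the product -/

theorem exists_sublist [Nontrivial k] {ω : List I} (hω : ∀ i ∈ ω, i ∈ J) {a b : Δ.Res J x}
    (h : (ω.map (Ep Δ J x k)).prod a b ≠ 0) :
    ∃ ω' : List I, ω'.Sublist ω ∧ Δ.δ (a : C) b = cs.wordProd ω' := by
  induction ω generalizing a with
  | nil =>
    refine ⟨[], List.Sublist.refl _, ?_⟩
    rw [List.map_nil, List.prod_nil, Matrix.one_apply] at h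
    rw [cs.wordProd_nil]
    by_contra h1
    exact h (if_neg fun h2 => h1 (by rw [h2]; exact delta_self (Δ := Δ) _))
  | cons i ω ih =>
    rw [List.map_cons, List.prod_cons, Matrix.mul_apply] at h
    obtain ⟨c, _, hc⟩ := Finset.exists_ne_zero_of_sum_ne_zero h
    obtain ⟨ω', hω', he⟩ := ih (fun j hj => hω j (by simp [hj])) (a := c)
      (fun h1 => hc (by rw [h1, mul_zero]))
    have hac : (c : C) ∈ Δ.Pan i (a : C) := by
      by_contra h1
      apply hc
      rw [Ep, one_add_apply, if_neg h1, zero_mul]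
    rcases hac with hac | hac
    · exact ⟨ω', hω'.cons i, by rw [← he, hac]⟩
    · rcases Δ.step_left (z := (b : C)) hac with h2 | h2
      · exact ⟨i :: ω', hω'.cons_cons i, by rw [h2, he, cs.wordProd_cons]⟩
      · exact ⟨ω', hω'.cons i, by rw [h2, he]⟩

end Hecke

section Main

variable {Δ : Bldg cs C} {J : Set I} {x : C} [F : Cox cs]

/-- THE HECKE THEOREM. -/
theorem exists_delta {p : ℕ} [Fact p.Prime] [Finite (Δ.Res J x)] {θ : C ≃ C}
    (hθ : ∀ a b, Δ.δ (θ a) (θ b) = Δ.δ a b) (hx : θ x ∈ Δ.Res J x)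
    (han : ∀ K : Set I, K ⊂ J → ∀ y ∈ Δ.Res J x, θ y ∉ Δ.Res K y)
    (hq : Zero (ZMod p) Δ J x) {ω : List I} (hnd : ω.Nodup) (hω : ∀ i, i ∈ ω ↔ i ∈ J) :
    ∃ a ∈ Δ.Res J x, Δ.δ (θ a) a = cs.wordProd ω := by
  have hfin := Fintype.ofFinite (Δ.Res J x)
  set k := ZMod p
  have hθR : ∀ a ∈ Δ.Res J x, θ a ∈ Δ.Res J x := by
    intro a ha
    have h1 : Δ.δ (θ x) (θ a) ∈ WJ cs J := by rw [hθ]; exact ha
    exact delta_mem_of_mem (y := θ x) hx h1
  have hθR' : ∀ a ∈ Δ.Res J x, θ.symm a ∈ Δ.Res J x := by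
    intro a ha
    have h1 : Δ.δ (θ x) (θ (θ.symm a)) ∈ WJ cs J := by
      rw [θ.apply_symm_apply]
      exact delta_mem_of_Res hx ha
    rw [hθ] at h1
    exact h1
  let P : Matrix (Δ.Res J x) (Δ.Res J x) k := Matrix.of fun a b => if (b : C) = θ a then 1 else 0
  have hPM : ∀ (B : Matrix (Δ.Res J x) (Δ.Res J x) k) (a b : Δ.Res J x),
      (P * B) a b = B ⟨θ a, hθR a a.2⟩ b := by
    intro B a b
    rw [Matrix.mul_apply, Finset.sum_eq_single (⟨θ a, hθR a a.2⟩ : Δ.Res J x)]
    · change (if θ (a : C) = θ a then (1 : k) else 0) * _ = _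
      rw [if_pos rfl, one_mul]
    · intro c _ hc
      change (if (c : C) = θ a then (1 : k) else 0) * _ = _
      rw [if_neg fun h1 => hc (Subtype.ext h1), zero_mul]
    · intro h1
      exact absurd (Finset.mem_univ _) h1
  have hMP : ∀ (B : Matrix (Δ.Res J x) (Δ.Res J x) k) (a b : Δ.Res J x),
      (B * P) a b = B a ⟨θ.symm b, hθR' b b.2⟩ := by
    intro B a b
    rw [Matrix.mul_apply, Finset.sum_eq_single (⟨θ.symm b, hθR' b b.2⟩ : Δ.Res J x)]
    · change _ * (if (b : C) = θ (θ.symm b) then (1 : k) else 0) = _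
      rw [if_pos (θ.apply_symm_apply _).symm, mul_one]
    · intro c _ hc
      change _ * (if (b : C) = θ c then (1 : k) else 0) = _
      rw [if_neg, mul_zero]
      intro h1
      apply hc
      apply Subtype.ext
      change (c : C) = θ.symm b
      rw [h1, θ.symm_apply_apply]
    · intro h1
      exact absurd (Finset.mem_univ _) h1
  have hTP : ∀ w, Commute P (T Δ J x k w) := by
    intro w
    change P * T Δ J x k w = T Δ J x k w * P
    ext a b
    rw [hPM, hMP, T_apply, T_apply]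
    have h1 : Δ.δ (a : C) (θ.symm b) = w ↔ Δ.δ (θ a) (b : C) = w := by
      rw [← θ.apply_symm_apply (b : C), hθ, θ.symm_apply_apply]
    by_cases h2 : Δ.δ (a : C) (θ.symm b) = w
    · rw [if_pos (h1.1 h2), if_pos]
      exact h2
    · rw [if_neg (fun h3 => h2 (h1.2 h3)), if_neg]
      exact h2
  have hFP : ∀ B ∈ Fil Δ J x k 0, Commute P B := by
    intro B hB
    induction hB using Submodule.span_induction with
    | mem B hB => obtain ⟨w, _, _, rfl⟩ := hB; exact hTP w
    | zero => exact Commute.zero_right _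
    | add B B' _ _ h1 h2 => exact h1.add_right h2
    | smul c B _ h1 => exact h1.smul_right c
  set D := Dm Δ J x k ω with hD
  have hPD : Commute P D := hFP _ (Dm_mem hq hω)
  have htr0 : (P * D).trace = 0 := by
    obtain ⟨n, hn⟩ := isNilpotent_Dm (k := k) hq hω
    have h1 : IsNilpotent (P * D) := ⟨n, by rw [hPD.mul_pow, hn, mul_zero]⟩
    exact (Matrix.isNilpotent_trace_of_isNilpotent h1).eq_zero
  have htr1 : (P * Ones Δ J x k).trace = 1 := by
    rw [Matrix.trace, ← card_Res (k := k) hq, ← Finset.card_univ, Finset.cast_card]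
    refine Finset.sum_congr rfl fun a _ => ?_
    rw [Matrix.diag_apply, hPM]
    rfl
  have htr2 : (P * (ω.map (Ep Δ J x k)).prod).trace = 1 := by
    rw [← htr1, ← sub_eq_zero, ← Matrix.trace_sub, ← mul_sub]
    exact htr0
  have hex : ∃ a : Δ.Res J x, (ω.map (Ep Δ J x k)).prod ⟨θ a, hθR a a.2⟩ a ≠ 0 := by
    by_contra hcon
    push Not at hcon
    rw [Matrix.trace] at htr2
    have h1 : ∑ a : Δ.Res J x, (P * (ω.map (Ep Δ J x k)).prod).diag a = 0 :=
      Finset.sum_eq_zero fun a _ => by rw [Matrix.diag_apply, hPM]; exact hcon a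
    rw [h1] at htr2
    exact zero_ne_one htr2
  obtain ⟨a, ha⟩ := hex
  obtain ⟨ω', hsub, he⟩ := exists_sublist (fun i hi => (hω i).1 hi) ha
  refine ⟨a, a.2, ?_⟩
  by_cases hee : ω' = ω
  · rw [← hee]; exact he
  exfalso
  have hlen : ω'.length < ω.length := lt_of_le_of_ne hsub.length_le fun h => hee (hsub.eq_of_length h)
  obtain ⟨j, hj, hj'⟩ : ∃ j ∈ ω, j ∉ ω' := by
    by_contra hcon
    push Not at hcon
    have h1 : ω.toFinset ⊆ ω'.toFinset := fun i hi => List.mem_toFinset.2 (hcon i (List.mem_toFinset.1 hi))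
    have h2 := Finset.card_le_card h1
    rw [List.toFinset_card_of_nodup hnd, List.toFinset_card_of_nodup (hnd.sublist hsub)] at h2
    omega
  have hK : {i | i ∈ ω'} ⊂ J := by
    refine ⟨fun i hi => (hω i).1 (hsub.subset hi), fun h => hj' (h ((hω j).1 hj))⟩
  refine han _ hK a a.2 ?_
  change Δ.δ (a : C) (θ a) ∈ WJ cs _
  rw [Δ.symm (θ a) (a : C)]
  refine inv_mem ?_
  have h2 : Δ.δ (θ a) (a : C) = cs.wordProd ω' := he
  rw [h2]
  exact Tits.Exchange.wordProd_mem_WJ cs fun i hi => hi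

end Main

end Cfsg.Agent.BpHecke

end

-- merged: Cfsg.Agent.BpHecke.RankTwo
section

/-!
# Automorphisms of order three of buildings of rank two (S1332)

`a, b` the two types, `4 ≤ M a b ≤ 8`, characteristic `p ≠ 3`, `t` an automorphism of order dividing `3`:

* `not_univ` : the whole building is not a minimal invariant residue (Hecke theorem);
* `good` : `Good 3 t.cent`, if the stabilisers of the chambers are solvable and the panels satisfy `GoodFamP 3`.
-/

set_option autoImplicit false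
set_option linter.unusedSectionVars false

open scoped Pointwise

namespace Cfsg.Agent.BpHecke.RankTwo

open Cfsg.Agent.Tits.Core Cfsg.Agent.Tits.Core.Bldg Cfsg.Agent.Tits.Exchange Cfsg.Agent.Tits
open Cfsg.Agent.FixBN (Sys)
open Cfsg.Agent.FixOdd Cfsg.Agent.FixOdd.Tw Cfsg.Agent.BpTri Cfsg.Agent.BpTab Cfsg.Agent.Schreier.Basic

variable {I : Type*} {M : CoxeterMatrix I} {W : Type*} [Group W] {cs : CoxeterSystem M W} {C : Type*}

local prefix:100 "ℓ" => cs.length

/-! ### The Weyl group -/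

section Weyl

variable {a b : I} (hI : ∀ i, i = a ∨ i = b)

include hI in
theorem mem_zpowers_or (w : W) : w ∈ Subgroup.zpowers (cs.simple a * cs.simple b) ∨
    w * cs.simple a ∈ Subgroup.zpowers (cs.simple a * cs.simple b) := by
  set ρ := cs.simple a * cs.simple b with hρ
  have ha : cs.simple a * cs.simple a = 1 := cs.simple_mul_simple_self a
  have hb : cs.simple b * cs.simple b = 1 := cs.simple_mul_simple_self b
  have hinv : ρ⁻¹ = cs.simple b * cs.simple a := by rw [hρ, mul_inv_rev, cs.inv_simple, cs.inv_simple]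
  have hconj : ∀ z ∈ Subgroup.zpowers ρ, cs.simple a * z * cs.simple a ∈ Subgroup.zpowers ρ := by
    rintro _ ⟨k, rfl⟩
    have h1 : cs.simple a * ρ ^ k * (cs.simple a)⁻¹ = (cs.simple a * ρ * (cs.simple a)⁻¹) ^ k := conj_zpow.symm
    have h2 : cs.simple a * ρ * (cs.simple a)⁻¹ = ρ⁻¹ := by
      rw [hinv, cs.inv_simple, hρ, ← mul_assoc, ha, one_mul]
    rw [cs.inv_simple] at h1
    rw [cs.inv_simple] at h2
    change cs.simple a * ρ ^ k * cs.simple a ∈ _
    rw [h1, h2]
    exact zpow_mem (inv_mem (Subgroup.mem_zpowers ρ)) k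
  have hstep : ∀ w, w ∈ Subgroup.zpowers ρ ∨ w * cs.simple a ∈ Subgroup.zpowers ρ →
      cs.simple a * w ∈ Subgroup.zpowers ρ ∨ cs.simple a * w * cs.simple a ∈ Subgroup.zpowers ρ := by
    rintro w (h | h)
    · exact Or.inr (hconj w h)
    · left
      have h1 := hconj _ h
      have h2 : cs.simple a * (w * cs.simple a) * cs.simple a = cs.simple a * w := by
        rw [mul_assoc, mul_assoc w, ha, mul_one]
      rwa [h2] at h1
  induction w using cs.simple_induction_left with
  | one => exact Or.inl (one_mem _)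
  | mul_simple_left w i ih =>
    rcases hI i with rfl | rfl
    · exact hstep w ih
    · have h1 : cs.simple i * w = ρ⁻¹ * (cs.simple a * w) := by
        rw [hinv, mul_assoc, ← mul_assoc (cs.simple a), ha, one_mul]
      rw [h1, mul_assoc]
      rcases hstep w ih with h2 | h2
      · exact Or.inl (mul_mem (inv_mem (Subgroup.mem_zpowers ρ)) h2)
      · exact Or.inr (mul_mem (inv_mem (Subgroup.mem_zpowers ρ)) h2)

include cs hI in
variable (cs) in
theorem card_le [Finite W] (h0 : 0 < M a b) (h8 : M a b ≤ 8) : Nat.card W ≤ 16 := by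
  set ρ := cs.simple a * cs.simple b with hρ
  have h1 : Nat.card (Subgroup.zpowers ρ) ≤ 8 := by
    rw [Nat.card_zpowers]
    exact (Nat.le_of_dvd h0 (orderOf_dvd_of_pow_eq_one (cs.simple_mul_simple_pow a b))).trans h8
  let f : Subgroup.zpowers ρ ⊕ Subgroup.zpowers ρ → W := fun z => match z with
    | Sum.inl z => z
    | Sum.inr z => z * cs.simple a
  have hf : Function.Surjective f := by
    intro w
    rcases mem_zpowers_or (cs := cs) hI w with h | h
    · exact ⟨Sum.inl ⟨w, h⟩, rfl⟩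
    · refine ⟨Sum.inr ⟨w * cs.simple a, h⟩, ?_⟩
      change w * cs.simple a * cs.simple a = w
      rw [mul_assoc, cs.simple_mul_simple_self, mul_one]
  have h2 := Nat.card_le_card_of_surjective f hf
  rw [Nat.card_sum] at h2
  omega

theorem pow_ne [Finite I] [Finite W] {k : ℕ} (hk : 0 < k) (hM : k < M a b) :
    (cs.simple a * cs.simple b) ^ k ≠ 1 := by
  classical
  have hfin := Fintype.ofFinite I
  intro h
  have h1 := orderOf_dvd_of_pow_eq_one h
  rw [LieRecognition.CoxForm.orderOf_eq] at h1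
  exact absurd (Nat.le_of_dvd hk h1) (by omega)

include hI in
theorem length_sq [Finite I] [Finite W] (hM : 4 ≤ M a b) :
    ℓ (cs.simple a * cs.simple b * (cs.simple a * cs.simple b)) =
      ℓ (cs.simple a * cs.simple b) + ℓ (cs.simple a * cs.simple b) := by
  set ρ := cs.simple a * cs.simple b with hρ
  have hinv : ρ⁻¹ = cs.simple b * cs.simple a := by rw [hρ, mul_inv_rev, cs.inv_simple, cs.inv_simple]
  have hle : ℓ ρ ≤ 2 := by
    have := cs.length_mul_le (cs.simple a) (cs.simple b)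
    rw [cs.length_simple, cs.length_simple] at this
    exact this
  have h4 : ℓ (ρ * ρ) ≤ ℓ ρ + ℓ ρ := cs.length_mul_le _ _
  have hpar : ℓ (ρ * ρ) % 2 = 0 := by
    have := cs.length_mul_mod_two ρ ρ
    omega
  have p1 : ρ ≠ 1 := fun h => pow_ne (cs := cs) (a := a) (b := b) (k := 1) (by norm_num) (by omega) (by rw [pow_one]; exact h)
  have p2 : ρ * ρ ≠ 1 := fun h => pow_ne (cs := cs) (a := a) (b := b) (k := 2) (by norm_num) (by omega) (by rw [pow_two]; exact h)
  have p3 : ρ * ρ ≠ ρ⁻¹ := fun h => pow_ne (cs := cs) (a := a) (b := b) (k := 3) (by norm_num) (by omega) (by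
    rw [pow_succ, pow_two, h, inv_mul_cancel])
  obtain ⟨ω, hω, he⟩ := cs.exists_isReduced (ρ * ρ)
  have hlen : ω.length = ℓ (ρ * ρ) := by rw [he]; exact hω.eq.symm
  rcases ω with _ | ⟨i, _ | ⟨j, ω⟩⟩
  · exact absurd he p2
  · rw [List.length_singleton] at hlen
    omega
  · rcases ω with _ | ⟨k, ω⟩
    · exfalso
      rw [cs.wordProd_cons, cs.wordProd_cons, cs.wordProd_nil, mul_one] at he
      rcases hI i with rfl | rfl <;> rcases hI j with rfl | rfl
      · rw [cs.simple_mul_simple_self] at he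
        exact p2 he
      · exact p1 (mul_eq_left.1 he)
      · exact p3 (by rw [he, hinv])
      · rw [cs.simple_mul_simple_self] at he
        exact p2 he
    · rw [List.length_cons, List.length_cons, List.length_cons] at hlen
      omega

end Weyl

/-! ### The automorphism -/

variable {Δ : Bldg cs C} {G : Type*} [Group G] [MulAction G C] {p : ℕ} {t : Tw Δ G}
  [F : OppRes.Cox cs]

theorem φ_cube (x : C) (h3 : t.θ ^ 3 = 1) (w : W) : t.φ (t.φ (t.φ w)) = w := by
  obtain ⟨y, hy⟩ := Δ.exists_δ x w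
  have h1 : ∀ z, t.θ (t.θ (t.θ z)) = z := fun z => by
    have := congrArg (fun f : Equiv.Perm C => f z) h3
    exact this
  have h2 : Δ.δ (t.θ (t.θ (t.θ x))) (t.θ (t.θ (t.θ y))) = t.φ (t.φ (t.φ w)) := by
    rw [t.δ_θ, t.δ_θ, t.δ_θ, hy]
  rw [h1, h1, hy] at h2
  exact h2.symm

theorem σ_eq (x : C) {a b : I} (hI : ∀ i, i = a ∨ i = b) (hab : a ≠ b) (h3 : t.θ ^ 3 = 1) (i : I) : t.σ i = i := by
  have h1 : ∀ i, t.σ (t.σ (t.σ i)) = i := fun i => by
    apply F.inj
    rw [← t.φ_simple, ← t.φ_simple, ← t.φ_simple, φ_cube x h3]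
  have h2 : t.σ a = a := by
    rcases hI (t.σ a) with h | h
    · exact h
    · rcases hI (t.σ b) with h' | h'
      · have h4 := h1 a
        rw [h, h', h] at h4
        exact absurd h4.symm hab
      · exact absurd (t.σ.injective (h.trans h'.symm)) hab
  rcases hI i with rfl | rfl
  · exact h2
  · rcases hI (t.σ i) with h | h
    · exact absurd (t.σ.injective (h.trans h2.symm)).symm hab
    · exact h

theorem φ_eq (x : C) {a b : I} (hI : ∀ i, i = a ∨ i = b) (hab : a ≠ b) (h3 : t.θ ^ 3 = 1) (w : W) : t.φ w = w := by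
  induction w using cs.simple_induction_left with
  | one => exact map_one _
  | mul_simple_left w i ih => rw [map_mul, t.φ_simple, σ_eq x hI hab h3, ih]

variable [Finite I] [Finite W] [Finite C] [hp : Fact p.Prime]

/-- **The Hecke theorem**: the whole building is not a minimal invariant residue. -/
theorem not_univ (S : Sys Δ G p) (hth : Δ.Thick) {a b : I} (hI : ∀ i, i = a ∨ i = b) (hab : a ≠ b)
    (hM : 4 ≤ M a b) (h3 : t.θ ^ 3 = 1) {J : Set I} {x : C} (h : t.Gd J x) (ha : a ∈ J) (hb : b ∈ J) : False := by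
  have hσ := σ_eq x hI hab h3 (t := t)
  have hφ := φ_eq x hI hab h3 (t := t)
  obtain ⟨c, hc, he⟩ := exists_delta (p := p) (Δ := Δ) (J := J) (x := x) (θ := t.θ) (ω := [a, b])
    (fun u v => by rw [t.δ_θ, hφ]) h.mem
    (fun K hK y hy hyK => hK.ne (h.min y hy K hK.subset (fun i hi => by rw [hσ]; exact hi) hyK))
    (fun i _ u _ => S.card_Pan_eq hth u i) (by
      rw [List.nodup_cons]
      exact ⟨by rw [List.mem_singleton]; exact hab, List.nodup_singleton _⟩) (fun i => by
      rw [List.mem_cons, List.mem_singleton]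
      constructor
      · rintro (rfl | rfl)
        · exact ha
        · exact hb
      · intro _
        exact hI i)
  rw [cs.wordProd_cons, cs.wordProd_singleton] at he
  set ρ := cs.simple a * cs.simple b with hρ
  have e1 : Δ.δ (t.θ (t.θ c)) (t.θ c) = ρ := by rw [t.δ_θ, hφ, he]
  have e2 : Δ.δ (t.θ (t.θ (t.θ c))) (t.θ (t.θ c)) = ρ := by rw [t.δ_θ, hφ, e1]
  have h1 : t.θ (t.θ (t.θ c)) = c := by
    have := congrArg (fun f : Equiv.Perm C => f c) h3
    exact this
  rw [h1] at e2
  have e3 : Δ.δ (t.θ (t.θ c)) c = ρ * ρ := Δ.δ_mul_of e1 he (length_sq hI hM)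
  have e4 : Δ.δ (t.θ (t.θ c)) c = ρ⁻¹ := by rw [Δ.symm c, e2]
  refine pow_ne (cs := cs) (a := a) (b := b) (k := 3) (by norm_num) (by omega) ?_
  rw [pow_succ, pow_two, ← hρ, ← e3, e4, inv_mul_cancel]

variable [Finite G]

/-- The stabiliser of a minimal invariant residue in the centraliser is solvable. -/
theorem isSolvable_stab (S : Sys Δ G p) (hth : Δ.Thick) {a b : I} (hI : ∀ i, i = a ∨ i = b) (hab : a ≠ b)
    (hM : 4 ≤ M a b) (h3 : t.θ ^ 3 = 1) {J : Set I} {x : C} (h : t.Gd J x)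
    (hsol : Group.IsSolvable (MulAction.stabilizer G x)) (hfam : ∀ i, GoodFamP 3 (S.fam i x)) :
    Group.IsSolvable ↥(t.cent ⊓ MulAction.stabilizer G (Δ.Res J x)) := by
  have hσ := σ_eq x hI hab h3 (t := t)
  rcases Set.eq_empty_or_nonempty J with rfl | ⟨i, hi⟩
  · have hle : t.cent ⊓ MulAction.stabilizer G (Δ.Res ∅ x) ≤ MulAction.stabilizer G x := by
      intro g hg
      have h1 : g • Δ.Res ∅ x = Δ.Res ∅ x := hg.2
      have h2 : g • x ∈ Δ.Res ∅ x := by
        rw [← h1]
        exact Set.smul_mem_smul_set (Δ.self_mem_Res _ _)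
      rw [mem_Res] at h2
      have h4 : WJ cs (∅ : Set I) = ⊥ := by
        unfold WJ
        rw [Set.image_empty, Subgroup.closure_empty]
      rw [h4, Subgroup.mem_bot] at h2
      exact (Δ.eq_of_δ_eq_one h2).symm
    exact Group.isSolvable_of_isSolvable_injective (Subgroup.inclusion_injective hle)
  · have hJ : J = {i} := by
      refine Set.Subset.antisymm (fun j hj => ?_) (Set.singleton_subset_iff.2 hi)
      rw [Set.mem_singleton_iff]
      by_contra hne
      rcases hI i with rfl | rfl <;> rcases hI j with rfl | rfl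
      · exact hne rfl
      · exact not_univ S hth hI hab hM h3 h hi hj
      · exact not_univ S hth hI hab hM h3 h hj hi
      · exact hne rfl
    subst hJ
    have hPan : ∀ y, Δ.Res {i} y = Δ.Pan i y := fun y => by
      ext z
      rw [mem_Res, mem_WJ_singleton]
      constructor
      · rintro (h | h)
        · exact Or.inl (Δ.eq_of_δ_eq_one h).symm
        · exact Or.inr h
      · rintro (h | h)
        · exact Or.inl ((Δ.eq_one _ _).2 h.symm)
        · exact Or.inr h
    refine isSolvable_panel S (hfam i) hsol t.τ t.θ (fun g y => t.θ_smul g y) h3 (x := x) (i := i) ?_ ?_ _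
      (fun g hg => hg.1) ?_
    · intro y
      rw [← hPan]
      constructor
      · exact h.θ_stable y
      · intro hy
        have h1 := h.θ_stable _ (h.θ_stable _ hy)
        have h2 : t.θ (t.θ (t.θ y)) = y := by
          have := congrArg (fun f : Equiv.Perm C => f y) h3
          exact this
        rwa [h2] at h1
    · intro y hy hfix
      rw [← hPan] at hy
      have h1 := h.min y hy ∅ (Set.empty_subset _) (fun i hi => hi.elim) (by
        rw [hfix]
        exact Δ.self_mem_Res _ _)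
      exact (Set.singleton_ne_empty i) h1.symm
    · intro g hg
      rw [← hPan]
      exact hg.2

/-- **Automorphisms of order three, rank two.** -/
theorem good (S : Sys Δ G p) (hth : Δ.Thick) {a b : I} (hI : ∀ i, i = a ∨ i = b) (hab : a ≠ b)
    (hM : 4 ≤ M a b) (hM8 : M a b ≤ 8) (hp3 : 3 ≠ p) (ho : t.Ord 3)
    (hsol : ∀ x : C, Group.IsSolvable (MulAction.stabilizer G x)) (hfam : ∀ i x, GoodFamP 3 (S.fam i x))
    (hS : ∀ J : Subgroup ↥t.cent, IsComponent J → Sch (↥J ⧸ Subgroup.center ↥J)) : Good 3 ↥t.cent := by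
  have : Fact (Nat.Prime 3) := ⟨Nat.prime_three⟩
  obtain ⟨x0, -⟩ := S.exists_fix ⊥ IsPGroup.of_bot
  obtain ⟨J, -, x, -, h⟩ := exists_gd (t := t) (J := Set.univ) (x := x0) (fun _ _ => Set.mem_univ _) (by
    rw [Bldg.Res_univ]; exact Set.mem_univ _)
  have hU : t.HU S := fun V hV hVp => exists_UR_smith S hth ho hV hVp
  obtain ⟨R, hR⟩ := exists_sylow S hth hU ho hp3 h
  have h4 := isSolvable_stab S hth hI hab hM ho.θ h (hsol x) (fun i => hfam i x)
  have h5 := Norm.isSolvable_normalizer S hth ho hp3 h (card_le cs hI (by omega) hM8) h4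
  rw [← hR] at h5
  exact BpGate.good_of_isSolvable (Tw.gsys S hth hU ho hp3) (Tw.inter S hth) (Tw.opp S hth hU ho hp3) hS R h5

end Cfsg.Agent.BpHecke.RankTwo

end
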